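import Mathlib.GroupTheory.GroupAction.MultipleTransitivity
import Mathlib.GroupTheory.GroupAction.FixedPoints
import Mathlib.GroupTheory.Transfer
import Mathlib.GroupTheory.Sylow
import Mathlib.GroupTheory.Perm.Fin
import Mathlib.Data.Fintype.CardEmbedding
import Cfsg.Agent.S0215

/-!
M. Hall's theorem on 4-fold transitive groups in which the stabilizer of four points has odd order.

All involutions fix exactly `f ∈ {2, 3}` points. For an involution `t` put `L` := pointwise stabilizer
of the fixed points of `t` and `C` := centralizer of `t`. An odd order subgroup of `L` normalized by `C`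
is trivial. If `L ∩ C` has a further involution, a Sylow 2-subgroup of `L ∩ C` is a four group, so by
transfer `L ∩ C` has order 4 and `n ≤ f + 4`. Otherwise `t` is isolated in `L`, hence central by Z*,
and then the stabilizer of four points is trivial, which gives `n ≤ 11`.
-/

set_option autoImplicit false
set_option linter.unusedSectionVars false

namespace Cfsg.Agent.Hall4Odd

open MulAction

variable {Γ α : Type*} [Group Γ] [MulAction Γ α]

/-- Four distinct points. -/
structure Quad (a b c d : α) : Prop where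
  hab : a ≠ b
  hac : a ≠ c
  had : a ≠ d
  hbc : b ≠ c
  hbd : b ≠ d
  hcd : c ≠ d

theorem Quad.nodup {a b c d : α} (q : Quad a b c d) : [a, b, c, d].Nodup := by
  simp [q.hab, q.hac, q.had, q.hbc, q.hbd, q.hcd]

/-- The embedding given by four distinct points. -/
def Quad.emb {a b c d : α} (q : Quad a b c d) : Fin 4 ↪ α :=
  ⟨[a, b, c, d].get, q.nodup.injective_get⟩

@[simp] theorem Quad.emb_zero {a b c d : α} (q : Quad a b c d) : q.emb 0 = a := rfl
@[simp] theorem Quad.emb_one {a b c d : α} (q : Quad a b c d) : q.emb 1 = b := rfl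
@[simp] theorem Quad.emb_two {a b c d : α} (q : Quad a b c d) : q.emb 2 = c := rfl
@[simp] theorem Quad.emb_three {a b c d : α} (q : Quad a b c d) : q.emb 3 = d := rfl

/-- Hypotheses of the theorem. -/
structure Hyp (Γ α : Type*) [Group Γ] [MulAction Γ α] : Prop where
  trans : IsMultiplyPretransitive Γ α 4
  odd : ∀ (g : Γ) (a b c d : α), Quad a b c d → g • a = a → g • b = b → g • c = c → g • d = d →
    Odd (orderOf g)

theorem Hyp.tr (h : Hyp Γ α) {a b c d a' b' c' d' : α} (q : Quad a b c d) (q' : Quad a' b' c' d') :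
    ∃ g : Γ, g • a = a' ∧ g • b = b' ∧ g • c = c' ∧ g • d = d' := by
  obtain ⟨g, hg⟩ := isMultiplyPretransitive_iff.mp h.trans q.emb q'.emb
  exact ⟨g, by simpa using DFunLike.congr_fun hg 0, by simpa using DFunLike.congr_fun hg 1,
    by simpa using DFunLike.congr_fun hg 2, by simpa using DFunLike.congr_fun hg 3⟩

theorem eq_one_of_odd {G : Type*} [Group G] {g : G} (h : Odd (orderOf g)) (h2 : g * g = 1) : g = 1 := by
  have hd : orderOf g ∣ 2 := orderOf_dvd_of_pow_eq_one (by rw [pow_two, h2])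
  rcases (Nat.dvd_prime Nat.prime_two).mp hd with h1 | h1
  · exact orderOf_eq_one_iff.mp h1
  · rw [h1] at h; exact absurd h (by decide)

theorem smul_smul_self {t : Γ} (ht : t * t = 1) (x : α) : t • t • x = x := by
  rw [← mul_smul, ht, one_smul]

theorem comm_smul {g t : Γ} (hg : g * t = t * g) (x : α) : g • t • x = t • g • x := by
  rw [← mul_smul, ← mul_smul, hg]

theorem fixed_of_odd_of_sq {g : Γ} (h : Odd (orderOf g)) {x : α} (h2 : g • g • x = x) : g • x = x := by
  obtain ⟨k, hk⟩ := h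
  have hp : ∀ j : ℕ, (g ^ (2 * j)) • x = x := by
    intro j
    induction j with
    | zero => simp
    | succ j ih =>
      rw [Nat.mul_succ, pow_add, pow_two, mul_smul, mul_smul, h2, ih]
  have h1 : (g ^ (2 * k + 1)) • x = g • x := by rw [pow_succ', mul_smul, hp k]
  rw [← hk, pow_orderOf_eq_one, one_smul] at h1
  exact h1.symm

/-- Involution on a finite set of odd size has a fixed point. -/
theorem exists_fixed_of_odd {s : Finset α} {t : Γ} (ht : t * t = 1) (hs : ∀ x ∈ s, t • x ∈ s)
    (hodd : Odd s.card) : ∃ x ∈ s, t • x = x := by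
  classical
  by_contra hno
  push Not at hno
  have h0 : ∑ _x ∈ s, (1 : ZMod 2) = 0 :=
    Finset.sum_involution (fun x _ => t • x) (fun _ _ => by decide)
      (fun x hx _ => hno x hx) (fun x hx => hs x hx) (fun x _ => smul_smul_self ht x)
  rw [Finset.sum_const, nsmul_eq_mul, mul_one, ZMod.natCast_eq_zero_iff_even] at h0
  exact (Nat.not_even_iff_odd.mpr hodd) h0

section Finite

variable [Finite Γ] [FaithfulSMul Γ α] [Fintype α] [DecidableEq α]

/-- An involution with prescribed action `(a b)(c)(d)`. -/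
theorem Hyp.exists_transp (h : Hyp Γ α) {a b c d : α} (q : Quad a b c d) :
    ∃ t : Γ, t * t = 1 ∧ t ≠ 1 ∧ t • a = b ∧ t • b = a ∧ t • c = c ∧ t • d = d := by
  obtain ⟨g, hga, hgb, hgc, hgd⟩ := h.tr q
    (⟨q.hab.symm, q.hbc, q.hbd, q.hac, q.had, q.hcd⟩ : Quad b a c d)
  have hodd := h.odd (g * g) a b c d q (by rw [mul_smul, hga, hgb]) (by rw [mul_smul, hgb, hga])
    (by rw [mul_smul, hgc, hgc]) (by rw [mul_smul, hgd, hgd])
  obtain ⟨k, hk⟩ := hodd
  have hp : ∀ (j : ℕ) (x : α), g • g • x = x → (g ^ (2 * j)) • x = x := by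
    intro j x hx
    induction j with
    | zero => simp
    | succ j ih => rw [Nat.mul_succ, pow_add, pow_two, mul_smul, mul_smul, hx, ih]
  have hp1 : ∀ x : α, g • g • x = x → (g ^ (2 * k + 1)) • x = g • x := by
    intro x hx
    rw [pow_succ, mul_smul]
    exact hp k _ (by rw [hx])
  have h1 := hp1 a (by rw [hga, hgb])
  refine ⟨g ^ (2 * k + 1), ?_, ?_, h1.trans hga, ?_, ?_, ?_⟩
  · rw [← (Commute.refl g).mul_pow, ← hk, pow_orderOf_eq_one]
  · intro h0
    rw [h0, one_smul, hga] at h1
    exact q.hab h1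
  · exact (hp1 b (by rw [hgb, hga])).trans hgb
  · exact (hp1 c (by rw [hgc, hgc])).trans hgc
  · exact (hp1 d (by rw [hgd, hgd])).trans hgd

/-- Two involutions that agree on four points are conjugate by an element fixing these points. -/
theorem Hyp.adjust (h : Hyp Γ α) {s t : Γ} (hs : s * s = 1) (ht : t * t = 1) {a b c d : α}
    (q : Quad a b c d) (ha : s • a = t • a) (hb : s • b = t • b) (hc : s • c = t • c)
    (hd : s • d = t • d) :
    ∃ x : Γ, x • a = a ∧ x • b = b ∧ x • c = c ∧ x • d = d ∧ x * s = t * x := by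
  have hfix : ∀ y : α, s • y = t • y → (t * s) • y = y := fun y hy => by
    rw [mul_smul, hy, smul_smul_self ht]
  obtain ⟨k, hk⟩ := h.odd (t * s) a b c d q (hfix a ha) (hfix b hb) (hfix c hc) (hfix d hd)
  set e := t * s with he
  have hfixp : ∀ (j : ℕ) (y : α), e • y = y → (e ^ j) • y = y := fun j y hy => by
    induction j with
    | zero => simp
    | succ j ih => rw [pow_succ, mul_smul, hy, ih]
  refine ⟨e ^ (k + 1), hfixp _ a (hfix a ha), hfixp _ b (hfix b hb), hfixp _ c (hfix c hc),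
    hfixp _ d (hfix d hd), ?_⟩
  have hconj : ∀ j : ℕ, s * e ^ j = (e ^ j)⁻¹ * s := by
    intro j
    induction j with
    | zero => simp
    | succ j ih =>
      have hse : s * e = e⁻¹ * s := by
        rw [he, mul_inv_rev, inv_eq_of_mul_eq_one_right hs, inv_eq_of_mul_eq_one_right ht, mul_assoc]
      calc s * e ^ (j + 1) = s * e ^ j * e := by rw [pow_succ, mul_assoc]
        _ = (e ^ j)⁻¹ * (s * e) := by rw [ih, mul_assoc]
        _ = (e ^ (j + 1))⁻¹ * s := by rw [hse, ← mul_assoc, ← mul_inv_rev, ← pow_succ']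
  have hts : t = e * s := by rw [he, mul_assoc, hs, mul_one]
  have h2 : e ^ (k + 1) = e * (e ^ (k + 1))⁻¹ := by
    rw [eq_mul_inv_iff_mul_eq, ← pow_add, show k + 1 + (k + 1) = (2 * k + 1) + 1 by omega, pow_succ,
      ← hk, pow_orderOf_eq_one, one_mul]
  calc e ^ (k + 1) * s = e * (e ^ (k + 1))⁻¹ * s := by rw [← h2]
    _ = e * (s * e ^ (k + 1)) := by rw [hconj, mul_assoc]
    _ = (e * s) * e ^ (k + 1) := (mul_assoc _ _ _).symm
    _ = t * e ^ (k + 1) := by rw [← hts]

/-- Transport of an involution, given by four points. -/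
theorem Hyp.conj (h : Hyp Γ α) {s t : Γ} (hs : s * s = 1) (ht : t * t = 1) {a b c d a' b' c' d' : α}
    (q : Quad a b c d) (q' : Quad a' b' c' d')
    (hagree : ∀ g : Γ, g • a = a' → g • b = b' → g • c = c' → g • d = d' →
      g • s • a = t • a' ∧ g • s • b = t • b' ∧ g • s • c = t • c' ∧ g • s • d = t • d') :
    ∃ g : Γ, g • a = a' ∧ g • b = b' ∧ g • c = c' ∧ g • d = d' ∧ g * s = t * g := by
  obtain ⟨g, hga, hgb, hgc, hgd⟩ := h.tr q q'
  obtain ⟨ha, hb, hc, hd⟩ := hagree g hga hgb hgc hgd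
  have hkey : ∀ y y' : α, g • y = y' → g • s • y = t • y' → (g * s * g⁻¹) • y' = t • y' := by
    intro y y' hy hy'
    rw [mul_smul, mul_smul, ← hy, inv_smul_smul, hy', hy]
  have hs' : g * s * g⁻¹ * (g * s * g⁻¹) = 1 := by
    rw [show g * s * g⁻¹ * (g * s * g⁻¹) = g * (s * s) * g⁻¹ by group, hs]; simp
  obtain ⟨x, hxa, hxb, hxc, hxd, hx⟩ := h.adjust hs' ht q' (hkey a a' hga ha) (hkey b b' hgb hb)
    (hkey c c' hgc hc) (hkey d d' hgd hd)
  refine ⟨x * g, by rw [mul_smul, hga, hxa], by rw [mul_smul, hgb, hxb],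
    by rw [mul_smul, hgc, hxc], by rw [mul_smul, hgd, hxd], ?_⟩
  calc x * g * s = x * (g * s * g⁻¹) * g := by group
    _ = t * (x * g) := by rw [hx, mul_assoc]

/-- The fixed points of an element. -/
def fixF (t : Γ) : Finset α := Finset.univ.filter fun x => t • x = x

@[simp] theorem mem_fixF {t : Γ} {x : α} : x ∈ (fixF t : Finset α) ↔ t • x = x := by simp [fixF]

theorem Hyp.eq_one (h : Hyp Γ α) {t : Γ} (ht : t * t = 1) {a b c d : α} (q : Quad a b c d)
    (ha : t • a = a) (hb : t • b = b) (hc : t • c = c) (hd : t • d = d) : t = 1 :=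
  eq_one_of_odd (h.odd t a b c d q ha hb hc hd) ht

theorem Hyp.card_fix_le (h : Hyp Γ α) {t : Γ} (ht : t * t = 1) (h1 : t ≠ 1) :
    (fixF t : Finset α).card ≤ 3 := by
  by_contra hc
  obtain ⟨e⟩ := Function.Embedding.nonempty_of_card_le
    (α := Fin 4) (β := (fixF t : Finset α)) (by rw [Fintype.card_coe, Fintype.card_fin]; omega)
  have hne : ∀ i j : Fin 4, i ≠ j → (e i : α) ≠ (e j : α) :=
    fun i j hij hh => hij (e.injective (Subtype.ext hh))
  exact h1 (h.eq_one ht (a := (e 0 : α)) (b := (e 1 : α)) (c := (e 2 : α)) (d := (e 3 : α))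
    ⟨hne 0 1 (by decide), hne 0 2 (by decide), hne 0 3 (by decide), hne 1 2 (by decide),
      hne 1 3 (by decide), hne 2 3 (by decide)⟩
    (mem_fixF.mp (e 0).2) (mem_fixF.mp (e 1).2) (mem_fixF.mp (e 2).2) (mem_fixF.mp (e 3).2))

/-- A point moved by `t` gives, with a second one, four distinct points. -/
theorem quad_moved {t : Γ} (ht : t * t = 1) {a b : α} (ha : t • a ≠ a) (hb : t • b ≠ b)
    (hba : b ≠ a) (hbta : b ≠ t • a) : Quad a (t • a) b (t • b) := by
  refine ⟨Ne.symm ha, hba.symm, ?_, hbta.symm, ?_, Ne.symm hb⟩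
  · intro h; apply hbta; rw [h, smul_smul_self ht]
  · intro h; exact hba (by simpa using h.symm)

theorem quad_moved_fix {t : Γ} {a p q : α} (ht : t * t = 1) (ha : t • a ≠ a) (hp : t • p = p)
    (hq : t • q = q) (hpq : p ≠ q) : Quad a (t • a) p q := by
  refine ⟨Ne.symm ha, ?_, ?_, ?_, ?_, hpq⟩
  · intro h; exact ha (h ▸ hp)
  · intro h; exact ha (h ▸ hq)
  · intro h; apply ha; rw [← h, smul_smul_self ht] at hp; exact hp.symm
  · intro h; apply ha; rw [← h, smul_smul_self ht] at hq; exact hq.symm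

/-- Transport on a moved point and two fixed points. -/
theorem Hyp.conj_fix (h : Hyp Γ α) {s t : Γ} (hs : s * s = 1) (ht : t * t = 1) {a p q a' p' q' : α}
    (ha : s • a ≠ a) (hp : s • p = p) (hq : s • q = q) (hpq : p ≠ q)
    (ha' : t • a' ≠ a') (hp' : t • p' = p') (hq' : t • q' = q') (hpq' : p' ≠ q') :
    ∃ g : Γ, g • a = a' ∧ g • p = p' ∧ g • q = q' ∧ g * s = t * g := by
  obtain ⟨g, h1, -, h3, h4, h5⟩ := h.conj hs ht (quad_moved_fix hs ha hp hq hpq)
    (quad_moved_fix ht ha' hp' hq' hpq') (fun g hga hgb hgc hgd =>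
      ⟨hgb, by rw [smul_smul_self hs, smul_smul_self ht, hga], by rw [hp, hp', hgc],
        by rw [hq, hq', hgd]⟩)
  exact ⟨g, h1, h3, h4, h5⟩

/-- Transport on two cycles. -/
theorem Hyp.conj_moved (h : Hyp Γ α) {s t : Γ} (hs : s * s = 1) (ht : t * t = 1) {a b a' b' : α}
    (ha : s • a ≠ a) (hb : s • b ≠ b) (hba : b ≠ a) (hbta : b ≠ s • a)
    (ha' : t • a' ≠ a') (hb' : t • b' ≠ b') (hba' : b' ≠ a') (hbta' : b' ≠ t • a') :
    ∃ g : Γ, g • a = a' ∧ g • b = b' ∧ g * s = t * g := by
  obtain ⟨g, h1, -, h3, -, h5⟩ := h.conj hs ht (quad_moved hs ha hb hba hbta)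
    (quad_moved ht ha' hb' hba' hbta') (fun g hga hgb hgc hgd =>
      ⟨hgb, by rw [smul_smul_self hs, smul_smul_self ht, hga], hgd,
        by rw [smul_smul_self hs, smul_smul_self ht, hgc]⟩)
  exact ⟨g, h1, h3, h5⟩

theorem Hyp.two_cycles (h : Hyp Γ α) (h6 : 6 ≤ Fintype.card α) {t : Γ} (ht : t * t = 1) (h1 : t ≠ 1) :
    ∃ a b : α, t • a ≠ a ∧ t • b ≠ b ∧ b ≠ a ∧ b ≠ t • a := by
  obtain ⟨a, ha⟩ : ∃ a : α, t • a ≠ a := by
    by_contra hno
    push Not at hno
    exact h1 (FaithfulSMul.eq_of_smul_eq_smul (α := α) fun x => by rw [hno x, one_smul])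
  have hcard : (fixF t ∪ {a, t • a} : Finset α).card ≤ 5 :=
    (Finset.card_union_le _ _).trans (Nat.add_le_add (h.card_fix_le ht h1) Finset.card_le_two)
  obtain ⟨b, hb⟩ : ∃ b : α, b ∉ (fixF t ∪ {a, t • a} : Finset α) := by
    by_contra hno
    push Not at hno
    rw [Finset.eq_univ_of_forall hno, Finset.card_univ] at hcard
    omega
  simp only [Finset.mem_union, mem_fixF, Finset.mem_insert, Finset.mem_singleton, not_or] at hb
  exact ⟨a, b, ha, hb.1, hb.2.1, hb.2.2⟩

theorem Hyp.card_fix_eq (h : Hyp Γ α) (h6 : 6 ≤ Fintype.card α) {s t : Γ} (hs : s * s = 1) (hs1 : s ≠ 1)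
    (ht : t * t = 1) (ht1 : t ≠ 1) : (fixF s : Finset α).card = (fixF t : Finset α).card := by
  obtain ⟨a, b, ha, hb, hba, hbta⟩ := h.two_cycles h6 hs hs1
  obtain ⟨a', b', ha', hb', hba', hbta'⟩ := h.two_cycles h6 ht ht1
  obtain ⟨g, -, -, hg⟩ := h.conj_moved hs ht ha hb hba hbta ha' hb' hba' hbta'
  refine Finset.card_bij (fun x _ => g • x) (fun x hx => ?_) (fun x _ y _ hxy => by simpa using hxy)
    (fun y hy => ⟨g⁻¹ • y, ?_, by simp⟩)
  · rw [mem_fixF] at hx ⊢
    rw [← mul_smul, ← hg, mul_smul, hx]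
  · rw [mem_fixF] at hy ⊢
    apply smul_left_cancel g
    rw [← mul_smul, hg, mul_smul, smul_inv_smul, hy]

theorem Hyp.two_le_fix (h : Hyp Γ α) (h6 : 6 ≤ Fintype.card α) {t : Γ} (ht : t * t = 1) (ht1 : t ≠ 1) :
    2 ≤ (fixF t : Finset α).card := by
  obtain ⟨e⟩ := Function.Embedding.nonempty_of_card_le (α := Fin 4) (β := α) (by simp; omega)
  have hne : ∀ i j : Fin 4, i ≠ j → e i ≠ e j := fun i j hij hh => hij (e.injective hh)
  obtain ⟨s, hs, hs1, -, -, hc, hd⟩ := h.exists_transp (a := e 0) (b := e 1) (c := e 2) (d := e 3)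
    ⟨hne 0 1 (by decide), hne 0 2 (by decide), hne 0 3 (by decide), hne 1 2 (by decide),
      hne 1 3 (by decide), hne 2 3 (by decide)⟩
  rw [← h.card_fix_eq h6 hs hs1 ht ht1]
  have : ({e 2, e 3} : Finset α) ⊆ fixF s := by
    intro x hx
    simp only [Finset.mem_insert, Finset.mem_singleton] at hx
    rcases hx with rfl | rfl <;> simp [hc, hd]
  have := Finset.card_le_card this
  rw [Finset.card_pair (hne 2 3 (by decide))] at this
  exact this

/-- An involution cannot fix more than another one does. -/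
theorem Hyp.eq_one_of_fix (h : Hyp Γ α) (h6 : 6 ≤ Fintype.card α) {s t : Γ} (hs : s * s = 1)
    (ht : t * t = 1) (ht1 : t ≠ 1) (hF : ∀ x : α, t • x = x → s • x = x)
    {a : α} (ha : t • a ≠ a) (hsa : s • a = a) : s = 1 := by
  by_contra hs1
  have hsub : insert a (fixF t : Finset α) ⊆ fixF s := by
    intro x hx
    rcases Finset.mem_insert.mp hx with rfl | hx
    · simpa using hsa
    · simpa using hF x (mem_fixF.mp hx)
  have := Finset.card_le_card hsub
  rw [Finset.card_insert_of_notMem (by simpa using ha), h.card_fix_eq h6 hs hs1 ht ht1] at this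
  omega

/-- The pointwise stabilizer of the fixed points of `t`. -/
def fixL (t : Γ) (α : Type*) [MulAction Γ α] : Subgroup Γ := fixingSubgroup Γ {x : α | t • x = x}

theorem mem_fixL {t g : Γ} : g ∈ fixL t α ↔ ∀ x : α, t • x = x → g • x = x := by
  simp [fixL, mem_fixingSubgroup_iff]

theorem self_mem_fixL (t : Γ) : t ∈ fixL t α := mem_fixL.mpr fun _ hx => hx

theorem preserve_fixed {g t : Γ} (hg : g * t = t * g) {x : α} (hx : t • x = x) : t • g • x = g • x := by
  rw [← comm_smul hg, hx]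

theorem inv_comm {g t : Γ} (hg : g * t = t * g) : g⁻¹ * t = t * g⁻¹ := Commute.inv_left hg

theorem conj_mem_fixL {g t ν : Γ} (hg : g * t = t * g) (hν : ν ∈ fixL t α) : g * ν * g⁻¹ ∈ fixL t α := by
  refine mem_fixL.mpr fun x hx => ?_
  rw [mul_smul, mul_smul, mem_fixL.mp hν _ (preserve_fixed (inv_comm hg) hx), smul_inv_smul]

theorem moved_of_mem_fixL {g t : Γ} (hg : g ∈ fixL t α) {x : α} (hx : t • x ≠ x) :
    t • g • x ≠ g • x := by
  intro h
  have := mem_fixL.mp (inv_mem hg) _ h
  rw [inv_smul_smul] at this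
  exact hx (this ▸ h)

theorem moved_t {t : Γ} (ht : t * t = 1) {x : α} (hx : t • x ≠ x) : t • t • x ≠ t • x := by
  rw [smul_smul_self ht]; exact Ne.symm hx

theorem Hyp.odd_of_fix (h : Hyp Γ α) (h6 : 6 ≤ Fintype.card α) {t g : Γ} (ht : t * t = 1) (ht1 : t ≠ 1)
    (hg : g ∈ fixL t α) {a : α} (ha : t • a ≠ a) (hga : g • a = a) : Odd (orderOf g) := by
  by_contra hc
  obtain ⟨m, hm⟩ := Nat.not_odd_iff_even.mp hc
  have hpos := orderOf_pos g
  have hpa : g ^ m ∈ stabilizer Γ a := pow_mem (MulAction.mem_stabilizer_iff.mpr hga) m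
  have h1 := h.eq_one_of_fix h6 (s := g ^ m) (by rw [← pow_add, ← hm, pow_orderOf_eq_one]) ht ht1
    (mem_fixL.mp (pow_mem hg m)) ha (MulAction.mem_stabilizer_iff.mp hpa)
  have := Nat.le_of_dvd (by omega) (orderOf_dvd_of_pow_eq_one h1)
  omega

theorem Hyp.no_four (h : Hyp Γ α) (h6 : 6 ≤ Fintype.card α) {t s w : Γ} (ht : t * t = 1) (ht1 : t ≠ 1)
    (hs : s * s = 1) (hs1 : s ≠ 1) (hst : s ≠ t) (hsL : s ∈ fixL t α) (hsc : s * t = t * s)
    (hwL : w ∈ fixL t α) (hw : w * w = t) : False := by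
  obtain ⟨a, -, ha, -, -, -⟩ := h.two_cycles h6 ht ht1
  have hsa : s • a ≠ a := fun hh => hs1 (h.eq_one_of_fix h6 hs ht ht1 (mem_fixL.mp hsL) ha hh)
  have hsta : s • a ≠ t • a := by
    intro hh
    have h1 : (t * s) * (t * s) = 1 := by
      rw [mul_assoc, ← mul_assoc s t s, hsc, mul_assoc t s s, hs, mul_one, ht]
    have h2 := h.eq_one_of_fix h6 h1 ht ht1 (mem_fixL.mp (mul_mem (self_mem_fixL t) hsL)) ha
      (by rw [mul_smul, hh, smul_smul_self ht])
    have h3 := congrArg (t * ·) h2
    simp only [← mul_assoc, ht, one_mul, mul_one] at h3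
    exact hst h3
  have hwt : w * t = t * w := by rw [← hw, mul_assoc]
  have hwa : w • a ≠ a := by
    intro hh; apply ha; rw [← hw, mul_smul, hh, hh]
  have hwta : w • a ≠ t • a := by
    intro hh
    apply ha
    have : t • a = w • t • a := by
      have e := congrArg (w • ·) hh
      rwa [← mul_smul, hw] at e
    rw [comm_smul hwt, hh, smul_smul_self ht] at this
    exact this
  obtain ⟨g, hga, hgb, hg⟩ := h.conj_moved ht ht ha (moved_of_mem_fixL hsL ha) hsa hsta ha
    (moved_of_mem_fixL hwL ha) hwa hwta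
  set b := w • a with hb
  set s' := g * s * g⁻¹ with hs'
  have hga' : g⁻¹ • a = a := inv_smul_eq_iff.mpr hga.symm
  have hgb' : g⁻¹ • b = s • a := inv_smul_eq_iff.mpr hgb.symm
  have hsb : s' • a = b := by rw [hs', mul_smul, mul_smul, hga', hgb]
  have hsb' : s' • b = a := by rw [hs', mul_smul, mul_smul, hgb', smul_smul_self hs, hga]
  have hs't : s' * t = t * s' := by
    exact (Commute.mul_left (Commute.mul_left hg hsc) (Commute.inv_left hg) : Commute s' t)
  have hv : s' * w ∈ fixL t α := mul_mem (conj_mem_fixL hg hsL) hwL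
  have hodd := h.odd_of_fix h6 ht ht1 hv ha (by rw [mul_smul, hsb'])
  have h1 : (s' * w) • b = t • b := by
    rw [hb, mul_smul, ← mul_smul w w a, hw, comm_smul hs't, hsb]
  have hvt : (s' * w) * t = t * (s' * w) := by
    exact (Commute.mul_left hs't hwt : Commute (s' * w) t)
  have h2 := fixed_of_odd_of_sq hodd (x := b) (by rw [h1, comm_smul hvt, h1, smul_smul_self ht])
  exact (moved_of_mem_fixL hwL ha) (h1 ▸ h2)

theorem Hyp.fixF_eq_of_mem (h : Hyp Γ α) (h6 : 6 ≤ Fintype.card α) {t z : Γ} (ht : t * t = 1) (ht1 : t ≠ 1)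
    (hz : z * z = 1) (hz1 : z ≠ 1) (hzL : z ∈ fixL t α) (x : α) : z • x = x ↔ t • x = x := by
  have hsub : (fixF t : Finset α) ⊆ fixF z := fun y hy => mem_fixF.mpr (mem_fixL.mp hzL y (mem_fixF.mp hy))
  have := Finset.eq_of_subset_of_card_le hsub (h.card_fix_eq h6 hz hz1 ht ht1).le
  rw [← mem_fixF, ← this, mem_fixF]

/-- A 2-element of `L ∩ C` has order at most 2 as soon as there is a second involution there. -/
theorem Hyp.sq_eq_one (h : Hyp Γ α) (h6 : 6 ≤ Fintype.card α) {t s g : Γ} (ht : t * t = 1) (ht1 : t ≠ 1)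
    (hs : s * s = 1) (hs1 : s ≠ 1) (hst : s ≠ t) (hsL : s ∈ fixL t α) (hsc : s * t = t * s)
    (hgL : g ∈ fixL t α) (hgc : g * t = t * g) (hg2 : ∃ i, g ^ (2 ^ i) = 1) : g * g = 1 := by
  classical
  by_contra hgg
  have hi := Nat.find_spec hg2
  set i := Nat.find hg2 with hidef
  obtain ⟨j, hj⟩ : ∃ j, i = j + 2 := by
    rcases hi' : i with _ | _ | j
    · rw [hi', pow_zero, pow_one] at hi
      rw [hi, mul_one] at hgg
      exact absurd rfl hgg
    · rw [hi', pow_one, pow_two] at hi
      exact absurd hi hgg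
    · exact ⟨j, rfl⟩
  set w := g ^ (2 ^ j) with hwdef
  set z := w * w with hzdef
  have hwL : w ∈ fixL t α := pow_mem hgL _
  have hzL : z ∈ fixL t α := mul_mem hwL hwL
  have hzpow : z = g ^ (2 ^ (j + 1)) := by rw [hzdef, hwdef, ← pow_add, pow_succ, mul_two]
  have hz : z * z = 1 := by
    rw [hzpow, ← pow_add, ← mul_two, ← pow_succ, show j + 1 + 1 = i by omega, hi]
  have hz1 : z ≠ 1 := by
    rw [hzpow]; exact Nat.find_min hg2 (m := j + 1) (by omega)
  have hzc : z * t = t * z := by
    rw [hzpow]; exact Commute.pow_left hgc _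
  by_cases hzt : z = t
  · exact h.no_four h6 ht ht1 hs hs1 hst hsL hsc hwL (hzdef ▸ hzt)
  · have hF := h.fixF_eq_of_mem h6 ht ht1 hz hz1 hzL
    exact h.no_four h6 hz hz1 ht ht1 (Ne.symm hzt) (mem_fixL.mpr fun x hx => (hF x).mp hx) hzc.symm
      (mem_fixL.mpr fun x hx => mem_fixL.mp hwL x ((hF x).mp hx)) hzdef.symm

/-- An odd order subgroup of `L` normalized by the centralizer of `t` is trivial. -/
theorem Hyp.block (h : Hyp Γ α) {t : Γ} (ht : t * t = 1) (N : Subgroup Γ)
    (hN : N ≤ fixL t α) (hodd : Odd (Nat.card N))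
    (hnorm : ∀ g : Γ, g * t = t * g → ∀ ν ∈ N, g * ν * g⁻¹ ∈ N) : N = ⊥ := by
  classical
  rw [Subgroup.eq_bot_iff_forall]
  intro ν hν
  refine FaithfulSMul.eq_of_smul_eq_smul (α := α) fun a => ?_
  rw [one_smul]
  by_cases ha : t • a = a
  · exact mem_fixL.mp (hN hν) a ha
  have key : ∀ ν₀ ∈ N, ν₀ • a ≠ t • a := by
    intro ν₀ hν₀ hh
    let B : Finset α := (orbit N a).toFinite.toFinset
    have hB : ∀ x, x ∈ B ↔ ∃ ν' ∈ N, ν' • a = x := fun x => by
      simp only [B, Set.Finite.mem_toFinset, mem_orbit_iff]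
      exact ⟨fun ⟨m, hm⟩ => ⟨m, m.2, hm⟩, fun ⟨m, hm, e⟩ => ⟨⟨m, hm⟩, e⟩⟩
    have hBodd : Odd B.card := by
      have hc : B.card = (stabilizer N a).index := by
        rw [index_stabilizer, Set.ncard_eq_toFinset_card _ (orbit N a).toFinite]
      rw [hc]
      exact Odd.of_dvd_nat hodd (Subgroup.index_dvd_card _)
    obtain ⟨y, hy, hty⟩ := exists_fixed_of_odd ht (s := B) (fun x hx => by
      obtain ⟨ν', hν', rfl⟩ := (hB x).mp hx
      refine (hB _).mpr ⟨t * ν' * t⁻¹ * ν₀, mul_mem (hnorm t rfl ν' hν') hν₀, ?_⟩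
      rw [mul_smul, hh, mul_smul, mul_smul, inv_smul_smul]) hBodd
    obtain ⟨ν', hν', rfl⟩ := (hB y).mp hy
    exact moved_of_mem_fixL (hN hν') ha hty
  by_contra hb
  have hbm := moved_of_mem_fixL (hN hν) ha
  obtain ⟨g, hga, hgb, hg⟩ := h.conj_moved ht ht ha hbm hb (key ν hν) ha (moved_t ht hbm)
    (fun hh => key ν hν (by rw [← smul_smul_self ht (ν • a), hh]))
    (fun hh => hb (smul_left_cancel t hh))
  have h1 : (g * ν * g⁻¹) • a = t • ν • a := by
    rw [mul_smul, mul_smul, inv_smul_eq_iff.mpr hga.symm, hgb]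
  apply key _ (mul_mem (inv_mem (hnorm t rfl ν hν)) (hnorm g hg ν hν))
  rw [mul_smul, h1, inv_smul_eq_iff, mul_smul, mul_smul, inv_smul_smul]

theorem Hyp.exists_two_fixed (h : Hyp Γ α) (h6 : 6 ≤ Fintype.card α) {t : Γ} (ht : t * t = 1) (ht1 : t ≠ 1) :
    ∃ p q : α, t • p = p ∧ t • q = q ∧ p ≠ q := by
  obtain ⟨p, hp, q, hq, hpq⟩ := Finset.one_lt_card.mp (h.two_le_fix h6 ht ht1)
  exact ⟨p, q, mem_fixF.mp hp, mem_fixF.mp hq, hpq⟩

/-- `L ∩ C` is transitive on the moved points. -/
theorem Hyp.trans_K (h : Hyp Γ α) (h6 : 6 ≤ Fintype.card α) {t : Γ} (ht : t * t = 1) (ht1 : t ≠ 1)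
    {a a' : α} (ha : t • a ≠ a) (ha' : t • a' ≠ a') :
    ∃ g ∈ fixL t α, g * t = t * g ∧ g • a = a' := by
  obtain ⟨p, q, hp, hq, hpq⟩ := h.exists_two_fixed h6 ht ht1
  obtain ⟨g, hga, hgp, hgq, hg⟩ := h.conj_fix ht ht ha hp hq hpq ha' hp hq hpq
  refine ⟨g, mem_fixL.mpr fun x hx => ?_, hg, hga⟩
  by_contra hgx
  have hxp : x ≠ p := fun e => hgx (e ▸ hgp)
  have hxq : x ≠ q := fun e => hgx (e ▸ hgq)
  have hsub : ({p, q, x, g • x} : Finset α) ⊆ fixF t := by
    intro y hy
    simp only [Finset.mem_insert, Finset.mem_singleton] at hy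
    rcases hy with rfl | rfl | rfl | rfl
    · simpa using hp
    · simpa using hq
    · simpa using hx
    · simpa using preserve_fixed hg hx
  have hcard : ({p, q, x, g • x} : Finset α).card = 4 := by
    have h1 : g • x ≠ p := fun e => hxp (smul_left_cancel g (e.trans hgp.symm))
    have h2 : g • x ≠ q := fun e => hxq (smul_left_cancel g (e.trans hgq.symm))
    rw [Finset.card_insert_of_notMem (by simp [hpq, hxp.symm, h1.symm]),
      Finset.card_insert_of_notMem (by simp [hxq.symm, h2.symm]),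
      Finset.card_pair (Ne.symm hgx)]
  have := Finset.card_le_card hsub
  have := h.card_fix_le ht ht1
  omega

/-- An involution of the centralizer of `t` swapping `a, t a` and fixing `b, t b`. -/
theorem Hyp.exists_outer (h : Hyp Γ α) {t : Γ} (ht : t * t = 1) {a b : α}
    (ha : t • a ≠ a) (hb : t • b ≠ b) (hba : b ≠ a) (hbta : b ≠ t • a) :
    ∃ z : Γ, z * z = 1 ∧ z * t = t * z ∧ z • a = t • a ∧ z • b = b ∧ z • t • b = t • b := by
  have q := quad_moved ht ha hb hba hbta
  obtain ⟨u, hu, -, hub, hutb, hua, huta⟩ := h.exists_transp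
    (⟨q.hcd, q.hac.symm, q.hbc.symm, q.had.symm, q.hbd.symm, q.hab⟩ : Quad b (t • b) a (t • a))
  set v := t * u with hv
  have hva : v • a = t • a := by rw [hv, mul_smul, hua]
  have hvta : v • t • a = a := by rw [hv, mul_smul, huta, smul_smul_self ht]
  have hvb : v • b = b := by rw [hv, mul_smul, hub, smul_smul_self ht]
  have hvtb : v • t • b = t • b := by rw [hv, mul_smul, hutb]
  obtain ⟨k, hk⟩ := h.odd (v * v) a (t • a) b (t • b) q (by rw [mul_smul, hva, hvta])
    (by rw [mul_smul, hvta, hva]) (by rw [mul_smul, hvb, hvb]) (by rw [mul_smul, hvtb, hvtb])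
  have hp : ∀ (j : ℕ) (x : α), v • v • x = x → (v ^ (2 * j)) • x = x := by
    intro j x hx
    induction j with
    | zero => simp
    | succ j ih => rw [Nat.mul_succ, pow_add, pow_two, mul_smul, mul_smul, hx, ih]
  have hp1 : ∀ x : α, v • v • x = x → (v ^ (2 * k + 1)) • x = v • x := by
    intro x hx
    rw [pow_succ, mul_smul]
    exact hp k _ (by rw [hx])
  have hz : v ^ (2 * k + 1) * v ^ (2 * k + 1) = 1 := by
    rw [← (Commute.refl v).mul_pow, ← hk, pow_orderOf_eq_one]
  refine ⟨v ^ (2 * k + 1), hz, ?_, (hp1 a (by rw [hva, hvta])).trans hva,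
    (hp1 b (by rw [hvb, hvb])).trans hvb, (hp1 _ (by rw [hvtb, hvtb])).trans hvtb⟩
  have hc : t * v * t⁻¹ = v⁻¹ := by
    rw [hv, mul_inv_rev, inv_eq_of_mul_eq_one_right ht, inv_eq_of_mul_eq_one_right hu, ← mul_assoc, ht, one_mul]
  have : t * v ^ (2 * k + 1) * t⁻¹ = v ^ (2 * k + 1) := by
    rw [← conj_pow, hc, inv_pow, inv_eq_of_mul_eq_one_right hz]
  exact (mul_inv_eq_iff_eq_mul.mp this).symm

theorem Hyp.small_of_four (h : Hyp Γ α) (h6 : 6 ≤ Fintype.card α) {t s : Γ} (ht : t * t = 1) (ht1 : t ≠ 1)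
    (hs : s * s = 1) (hs1 : s ≠ 1) (hst : s ≠ t) (hsL : s ∈ fixL t α) (hsc : s * t = t * s) :
    Fintype.card α ≤ 7 := by
  classical
  have : Fact (Nat.Prime 2) := ⟨Nat.prime_two⟩
  obtain ⟨a, b, ha, hb, hba, hbta⟩ := h.two_cycles h6 ht ht1
  obtain ⟨z, hz, hzc, hza, hzb, hztb⟩ := h.exists_outer ht ha hb hba hbta
  have hz1 : z ≠ 1 := fun e => ha (by rw [← hza, e, one_smul])
  -- moved points of `t` fixed by `z`
  have hzfix : ∀ x : α, t • x ≠ x → z • x = x → x = b ∨ x = t • b := by
    intro x hx hzx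
    by_contra hc
    push Not at hc
    exact hz1 (h.eq_one hz (quad_moved ht hb hx hc.1 hc.2) hzb hztb hzx
      (by rw [comm_smul hzc, hzx]))
  -- an element of `L ∩ C` squaring to one and centralizing `z`
  have hcent : ∀ g ∈ fixL t α, g * t = t * g → g * g = 1 → g * z = z * g → g = 1 ∨ g = t := by
    intro g hgL hgt hg2 hgz
    have h1 : z • g • b = g • b := by rw [← comm_smul hgz, hzb]
    rcases hzfix _ (moved_of_mem_fixL hgL hb) h1 with h2 | h2
    · exact Or.inl (h.eq_one_of_fix h6 hg2 ht ht1 (mem_fixL.mp hgL) hb h2)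
    · right
      have h3 : (t * g) * (t * g) = 1 := by
        rw [mul_assoc, ← mul_assoc g t g, hgt, mul_assoc t g g, hg2, mul_one, ht]
      have h4 := h.eq_one_of_fix h6 h3 ht ht1 (mem_fixL.mp (mul_mem (self_mem_fixL t) hgL)) hb
        (by rw [mul_smul, h2, smul_smul_self ht])
      have h5 := congrArg (t * ·) h4
      simpa only [← mul_assoc, ht, one_mul, mul_one] using h5
  set C : Subgroup Γ := Subgroup.centralizer {t} with hC
  have memC : ∀ g, g ∈ C ↔ g * t = t * g := fun g => Subgroup.mem_centralizer_singleton_iff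
  let K' : Subgroup C := (fixL t α).subgroupOf C
  have : K'.Normal := ⟨fun n hn g => by
    simp only [K', Subgroup.mem_subgroupOf] at hn ⊢
    simpa using conj_mem_fixL ((memC _).mp g.2) hn⟩
  let zC : C := ⟨z, (memC z).mpr hzc⟩
  have hzC : IsPGroup 2 (Subgroup.zpowers zC) := by
    refine IsPGroup.of_card (n := 1) ?_
    rw [Nat.card_zpowers, pow_one]
    exact orderOf_eq_prime (Subtype.ext (by simp [zC, pow_two, hz]))
      (fun e => hz1 (by simpa [zC] using congrArg Subtype.val e))
  obtain ⟨Q, hQ⟩ := hzC.exists_le_sylow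
  let S : Subgroup C := (Q : Subgroup C) ⊓ K'
  have hS2 : ∀ x ∈ S, x * x = 1 := by
    intro x hx
    obtain ⟨i, hi⟩ := Q.2 ⟨x, hx.1⟩
    exact Subtype.ext (h.sq_eq_one h6 ht ht1 hs hs1 hst hsL hsc (Subgroup.mem_subgroupOf.mp hx.2)
      ((memC _).mp x.2) ⟨i, by simpa using congrArg (fun y : (Q : Subgroup C) => ((y : C) : Γ)) hi⟩)
  have hScard : Nat.card S ≤ 4 := by
    have hcomm : ∀ x ∈ S, ∀ y ∈ S, x * y = y * x := fun x hx y hy => by
      have e := hS2 _ (mul_mem hx hy)
      rw [← inv_eq_of_mul_eq_one_right e, mul_inv_rev, inv_eq_of_mul_eq_one_right (hS2 x hx),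
        inv_eq_of_mul_eq_one_right (hS2 y hy)]
    have hzS : ∀ x ∈ S, zC * x * zC⁻¹ ∈ S := fun x hx =>
      ⟨mul_mem (mul_mem (hQ (Subgroup.mem_zpowers zC)) hx.1) ((Q : Subgroup C).inv_mem (hQ (Subgroup.mem_zpowers zC))),
        Subgroup.Normal.conj_mem inferInstance x hx.2 zC⟩
    have hzz : zC * zC = 1 := Subtype.ext hz
    let φ : S →* S := MonoidHom.mk' (fun x => x * ⟨zC * x * zC⁻¹, hzS _ x.2⟩) (fun x y => by
      apply Subtype.ext
      have e := hcomm (y : C) y.2 (zC * x * zC⁻¹) (hzS _ x.2)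
      simp only [Subgroup.coe_mul]
      calc (x : C) * y * (zC * (x * y) * zC⁻¹) = x * (y * (zC * x * zC⁻¹)) * (zC * y * zC⁻¹) := by group
        _ = x * (zC * x * zC⁻¹ * y) * (zC * y * zC⁻¹) := by rw [e]
        _ = x * (zC * x * zC⁻¹) * (y * (zC * y * zC⁻¹)) := by group)
    have hfixed : ∀ x : S, zC * (x : C) * zC⁻¹ = x → ((x : C) : Γ) = 1 ∨ ((x : C) : Γ) = t := by
      intro x hx
      have hx2 : ((x : C) : Γ) ∈ fixL t α := Subgroup.mem_subgroupOf.mp x.2.2
      refine hcent _ hx2 ((memC _).mp (x : C).2)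
        (by simpa using congrArg Subtype.val (hS2 _ x.2)) ?_
      have := congrArg Subtype.val (mul_inv_eq_iff_eq_mul.mp hx)
      simpa [zC] using this.symm
    have htwo : ∀ T : Subgroup S, (∀ x ∈ T, ((x : C) : Γ) = 1 ∨ ((x : C) : Γ) = t) → Nat.card T ≤ 2 := by
      intro T hT
      calc Nat.card T ≤ Nat.card ({1, t} : Set Γ) :=
            Nat.card_le_card_of_injective (fun x => ⟨((x.1 : C) : Γ), hT x.1 x.2⟩)
              (fun x y e => by
              exact Subtype.ext (Subtype.ext (Subtype.ext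
                (congrArg (fun v : ({1, t} : Set Γ) => (v : Γ)) e))))
        _ ≤ 2 := by
          rw [Nat.card_coe_set_eq]
          exact (Set.ncard_insert_le _ _).trans (by simp)
    have hker : Nat.card φ.ker ≤ 2 := htwo _ fun x hx => hfixed x (by
      have e := congrArg Subtype.val (MonoidHom.mem_ker.mp hx)
      simp only [φ, MonoidHom.mk'_apply, Subgroup.coe_mul, Subgroup.coe_one] at e
      rw [← inv_eq_of_mul_eq_one_right e, inv_eq_of_mul_eq_one_right (hS2 _ x.2)])
    have hran : Nat.card φ.range ≤ 2 := htwo _ fun y hy => hfixed y (by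
      obtain ⟨x, rfl⟩ := hy
      simp only [φ, MonoidHom.mk'_apply, Subgroup.coe_mul]
      calc zC * ((x : C) * (zC * x * zC⁻¹)) * zC⁻¹
          = (zC * x * zC⁻¹) * ((zC * zC) * x * (zC * zC)⁻¹) := by group
        _ = (x : C) * (zC * x * zC⁻¹) := by
          rw [hzz, inv_one, mul_one, one_mul]
          exact hcomm _ (hzS _ x.2) _ x.2)
    calc Nat.card S = Nat.card (S ⧸ φ.ker) * Nat.card φ.ker := φ.ker.card_eq_card_quotient_mul_card_subgroup
      _ = Nat.card φ.range * Nat.card φ.ker := by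
        rw [Nat.card_congr (QuotientGroup.quotientKerEquivRange φ).toEquiv]
      _ ≤ 2 * 2 := Nat.mul_le_mul hran hker
  -- the group `L ∩ C`
  let P : Sylow 2 K' := default
  have hPcard : Nat.card P ≤ 4 := by
    have hP' : IsPGroup 2 ((P : Subgroup K').map K'.subtype) := P.2.map _
    obtain ⟨R, hR⟩ := hP'.exists_le_sylow
    obtain ⟨g, hg⟩ := MulAction.exists_smul_eq C R Q
    have hle : ((P : Subgroup K').map K'.subtype).map (MulAut.conj g).toMonoidHom ≤ S := by
      rintro _ ⟨y, hy, rfl⟩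
      refine ⟨?_, ?_⟩
      · rw [← hg]
        show (MulAut.conj g) y ∈ ((g • R : Sylow 2 C) : Subgroup C)
        rw [Sylow.coe_subgroup_smul]
        exact Subgroup.smul_mem_pointwise_smul y _ _ (hR hy)
      · obtain ⟨y', -, rfl⟩ := hy
        exact Subgroup.Normal.conj_mem inferInstance _ y'.2 g
    have e := Subgroup.card_le_of_le hle
    rw [Subgroup.card_map_of_injective (f := (MulAut.conj g).toMonoidHom) (MulAut.conj g).injective,
      Subgroup.card_map_of_injective (f := K'.subtype) (Subgroup.subtype_injective _)] at e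
    exact e.trans hScard
  have hP2 : ∀ x ∈ (P : Subgroup K'), x * x = 1 := by
    intro x hx
    obtain ⟨i, hi⟩ := P.2 ⟨x, hx⟩
    exact Subtype.ext (Subtype.ext (h.sq_eq_one h6 ht ht1 hs hs1 hst hsL hsc
      (Subgroup.mem_subgroupOf.mp x.2) ((memC _).mp (x : C).2)
      ⟨i, by simpa using congrArg (fun y : (P : Subgroup K') => (((y : K') : C) : Γ)) hi⟩))
  let tK : K' := ⟨⟨t, (memC t).mpr rfl⟩, Subgroup.mem_subgroupOf.mpr (self_mem_fixL t)⟩
  have htK : ∀ x : K', tK * x = x * tK := fun x =>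
    Subtype.ext (Subtype.ext (by simpa [tK] using ((memC _).mp (x : C).2).symm))
  have htP : tK ∈ (P : Subgroup K') := by
    have h2 : IsPGroup 2 (Subgroup.zpowers tK) := by
      refine IsPGroup.of_card (n := 1) ?_
      rw [Nat.card_zpowers, pow_one]
      exact orderOf_eq_prime (Subtype.ext (Subtype.ext (by simp [tK, pow_two, ht])))
        (fun e => ht1 (by simpa [tK] using congrArg (fun y : K' => ((y : C) : Γ)) e))
    have := IsPGroup.inf_normalizer_sylow h2 P
    have hm : tK ∈ Subgroup.zpowers tK ⊓ Subgroup.normalizer ((P : Subgroup K') : Set K') := by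
      refine ⟨Subgroup.mem_zpowers tK, ?_⟩
      refine Subgroup.mem_normalizer_iff.mpr fun x => ?_
      rw [htK x, mul_inv_cancel_right]
    exact (this ▸ hm : tK ∈ Subgroup.zpowers tK ⊓ (P : Subgroup K')).2
  have hPc : ∀ x ∈ (P : Subgroup K'), ∀ y ∈ (P : Subgroup K'), x * y = y * x := fun x hx y hy => by
    have e := hP2 _ (mul_mem hx hy)
    rw [← inv_eq_of_mul_eq_one_right e, mul_inv_rev, inv_eq_of_mul_eq_one_right (hP2 x hx),
      inv_eq_of_mul_eq_one_right (hP2 y hy)]
  have hNC : Subgroup.normalizer ((P : Subgroup K') : Set K') ≤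
      Subgroup.centralizer ((P : Subgroup K') : Set K') := by
    intro g hg
    refine Subgroup.mem_centralizer_iff.mpr fun x hx => ?_
    by_cases hx1 : x = 1
    · subst hx1; simp
    by_cases hxt : x = tK
    · subst hxt; exact htK g
    have hsub : ({1, tK, x, tK * x} : Finset K').card = 4 := by
      have htK1 : tK ≠ 1 := fun e => ht1 (by simpa [tK] using congrArg (fun y : K' => ((y : C) : Γ)) e)
      have a1 : tK * x ≠ 1 := fun e => hxt (by
        have h' := inv_eq_of_mul_eq_one_right e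
        rw [← h', inv_eq_of_mul_eq_one_right (hP2 _ htP)])
      have a2 : tK * x ≠ tK := fun e => hx1 (mul_left_cancel (e.trans (mul_one tK).symm))
      have a3 : x ≠ tK * x := fun e => htK1 (mul_right_cancel ((one_mul x).trans e)).symm
      rw [Finset.card_insert_of_notMem (by simp [htK1.symm, Ne.symm hx1, a1.symm]),
        Finset.card_insert_of_notMem (by simp [Ne.symm hxt, a2.symm]), Finset.card_pair a3]
    have hall : ∀ y ∈ (P : Subgroup K'), y = 1 ∨ y = tK ∨ y = x ∨ y = tK * x := by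
      intro y hy
      by_contra hc
      push Not at hc
      have h5 : ((insert y {1, tK, x, tK * x} : Finset K') : Set K') ⊆ ((P : Subgroup K') : Set K') := by
        intro v hv
        simp only [Finset.coe_insert, Finset.coe_singleton, Set.mem_insert_iff, Set.mem_singleton_iff] at hv
        rcases hv with rfl | rfl | rfl | rfl | rfl
        exacts [hy, one_mem _, htP, hx, mul_mem htP hx]
      have := Set.ncard_le_ncard h5
      rw [Set.ncard_coe_finset, Finset.card_insert_of_notMem (by simp [hc.1, hc.2.1, hc.2.2.1, hc.2.2.2]),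
        hsub, ← Nat.card_coe_set_eq] at this
      have h4 : Nat.card ((P : Subgroup K') : Set K') ≤ 4 := hPcard
      omega
    have hgx : g * x * g⁻¹ ∈ (P : Subgroup K') := (Subgroup.mem_normalizer_iff.mp hg x).mp hx
    rcases hall _ hgx with e | e | e | e
    · exact absurd (by simpa using e) hx1
    · exact absurd (show x = tK by
        have e' := congrArg (fun y => g⁻¹ * y * g) e
        simp only [mul_assoc, inv_mul_cancel, mul_one, inv_mul_cancel_left] at e'
        rw [e', htK g, inv_mul_cancel_left]) hxt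
    · exact (mul_inv_eq_iff_eq_mul.mp e).symm
    · exfalso
      -- the 2-part of `g` also sends `x` to `tK * x`, but lies in the abelian `P`
      obtain ⟨i, m, hm, him⟩ := Nat.exists_eq_two_pow_mul_odd (orderOf_pos g).ne'
      have hgm : ∀ k : ℕ, g ^ k * x * (g ^ k)⁻¹ = tK ^ k * x := by
        intro k
        induction k with
        | zero => simp
        | succ k ih =>
          have hc : ∀ v : K', g * (tK ^ k * v) * g⁻¹ = tK ^ k * (g * v * g⁻¹) := fun v => by
            have : Commute g (tK ^ k) := Commute.pow_right (htK g).symm k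
            rw [← mul_assoc g, this.eq]; group
          calc g ^ (k + 1) * x * (g ^ (k + 1))⁻¹ = g * (g ^ k * x * (g ^ k)⁻¹) * g⁻¹ := by
                rw [pow_succ']; group
            _ = tK ^ (k + 1) * x := by rw [ih, hc, e, pow_succ, mul_assoc]
      have hy2 : IsPGroup 2 (Subgroup.zpowers (g ^ m)) := by
        refine IsPGroup.of_card (n := i) ?_
        rw [Nat.card_zpowers, orderOf_pow' _ (by rintro rfl; simp at hm), him, Nat.gcd_mul_left_left,
          Nat.mul_div_assoc _ (dvd_refl m), Nat.div_self hm.pos, mul_one]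
      have := IsPGroup.inf_normalizer_sylow hy2 P
      have hmem : g ^ m ∈ (P : Subgroup K') :=
        (this ▸ ⟨Subgroup.mem_zpowers _, pow_mem hg m⟩ :
          g ^ m ∈ Subgroup.zpowers (g ^ m) ⊓ (P : Subgroup K')).2
      have h6' := hgm m
      rw [hPc _ hmem x hx, mul_inv_cancel_right] at h6'
      obtain ⟨k, rfl⟩ := hm
      rw [pow_succ, pow_mul, pow_two, hP2 _ htP, one_pow, one_mul] at h6'
      have : tK = 1 := mul_right_cancel (h6'.symm.trans (one_mul x).symm)
      exact ht1 (by simpa [tK] using congrArg (fun y : K' => ((y : C) : Γ)) this)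
  let T := MonoidHom.transferSylow P hNC
  have hcompl := MonoidHom.ker_transferSylow_isComplement' P hNC
  have hkodd : Odd (Nat.card T.ker) := by
    have : Nat.card T.ker = (P : Subgroup K').index := hcompl.index_eq_card.symm
    rw [this, ← Nat.not_even_iff_odd, even_iff_two_dvd]
    exact P.not_dvd_index
  have hodd_mem : ∀ x : K', Odd (orderOf x) → x ∈ T.ker := by
    intro x hx
    refine MonoidHom.mem_ker.mpr (eq_one_of_odd (Odd.of_dvd_nat hx (orderOf_map_dvd T x)) ?_)
    exact Subtype.ext (hP2 _ (T x).2)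
  let N : Subgroup Γ := (T.ker.map K'.subtype).map C.subtype
  have hNeq : Nat.card N = Nat.card T.ker := by
    rw [Subgroup.card_map_of_injective (f := C.subtype) (Subgroup.subtype_injective _),
      Subgroup.card_map_of_injective (f := K'.subtype) (Subgroup.subtype_injective _)]
  have hN := h.block ht N (by
      rintro _ ⟨_, ⟨x, -, rfl⟩, rfl⟩
      exact Subgroup.mem_subgroupOf.mp x.2) (hNeq ▸ hkodd) (by
      intro g hg ν hν
      obtain ⟨_, ⟨x, hx, rfl⟩, rfl⟩ := hν
      let gC : C := ⟨g, (memC g).mpr hg⟩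
      let x' : K' := ⟨gC * x * gC⁻¹, Subgroup.Normal.conj_mem inferInstance _ x.2 gC⟩
      refine ⟨x', ⟨x', hodd_mem x' ?_, rfl⟩, rfl⟩
      have : orderOf x' = orderOf x := by
        rw [← Subgroup.orderOf_coe x', ← Subgroup.orderOf_coe x]
        exact (MulAut.conj gC).orderOf_eq (x : C)
      rw [this]
      refine Odd.of_dvd_nat hkodd ?_
      rw [← Subgroup.orderOf_mk x hx]
      exact orderOf_dvd_natCard _)
  have hkone : Nat.card T.ker = 1 := by rw [← hNeq, hN, Subgroup.card_bot]
  have hK : Nat.card K' ≤ 4 := by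
    rw [← hcompl.card_mul_card, hkone, one_mul]; exact hPcard
  -- moved points
  have hmoved : (Finset.univ.filter fun x : α => t • x ≠ x).card ≤ 4 := by
    have hsurj : ∀ x : {x : α // x ∈ Finset.univ.filter fun x : α => t • x ≠ x},
        ∃ g : K', ((g : C) : Γ) • a = (x : α) := by
      rintro ⟨x, hx⟩
      obtain ⟨g, hgL, hgc, hga⟩ := h.trans_K h6 ht ht1 ha (Finset.mem_filter.mp hx).2
      exact ⟨⟨⟨g, (memC g).mpr hgc⟩, Subgroup.mem_subgroupOf.mpr hgL⟩, hga⟩
    choose F hF using hsurj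
    have hinj : Function.Injective F := fun x y e => Subtype.ext (by rw [← hF x, ← hF y, e])
    have := Nat.card_le_card_of_injective F hinj
    rw [Nat.card_eq_fintype_card, Fintype.card_coe] at this
    exact this.trans hK
  have hsum : (fixF t : Finset α).card + (Finset.univ.filter fun x : α => t • x ≠ x).card =
      Fintype.card α := Finset.card_filter_add_card_filter_not _
  have := h.card_fix_le ht ht1
  omega

/-- If `t` is the only involution of `L ∩ C`, then `t` is central in `L` (Z*). -/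
theorem Hyp.central (h : Hyp Γ α) (_h6 : 6 ≤ Fintype.card α) {t : Γ} (ht : t * t = 1) (ht1 : t ≠ 1)
    (huniq : ∀ s ∈ fixL t α, s * t = t * s → s * s = 1 → s = 1 ∨ s = t) :
    ∀ g ∈ fixL t α, g * t = t * g := by
  classical
  have : Fact (Nat.Prime 2) := ⟨Nat.prime_two⟩
  let L := fixL t α
  let tL : L := ⟨t, self_mem_fixL t⟩
  have htL : orderOf tL = 2 := orderOf_eq_prime (Subtype.ext (by simp [tL, pow_two, ht]))
    (fun e => ht1 (by simpa [tL] using congrArg Subtype.val e))
  obtain ⟨P, hP⟩ := (IsPGroup.of_card (n := 1) (G := Subgroup.zpowers tL) (p := 2)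
    (by rw [Nat.card_zpowers, htL, pow_one])).exists_le_sylow
  have htP : tL ∈ P := hP (Subgroup.mem_zpowers tL)
  have hiso : ∀ g : L, g * tL * g⁻¹ ∈ P → g * tL * g⁻¹ = tL := by
    intro g hg
    set u := g * tL * g⁻¹ with hu
    have htL2 : tL * tL = 1 := Subtype.ext ht
    have hu2 : u * u = 1 := by
      rw [hu, show g * tL * g⁻¹ * (g * tL * g⁻¹) = g * (tL * tL) * g⁻¹ by group, htL2]; simp
    set d := tL * u with hd
    obtain ⟨i, hi⟩ := P.2 ⟨d, mul_mem htP hg⟩
    have hi' : d ^ (2 ^ i) = 1 := congrArg Subtype.val hi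
    have hdu : tL * d * tL⁻¹ = d⁻¹ := by
      rw [hd, mul_inv_rev, inv_eq_of_mul_eq_one_right htL2, inv_eq_of_mul_eq_one_right hu2,
        ← mul_assoc, htL2, one_mul]
    by_contra hne
    have hd1 : d ≠ 1 := fun e => hne (by
      have h' := inv_eq_of_mul_eq_one_right (hd ▸ e : tL * u = 1)
      rw [← h', inv_eq_of_mul_eq_one_right htL2])
    have hex : ∃ j, d ^ (2 ^ j) = 1 := ⟨i, hi'⟩
    have hj := Nat.find_spec hex
    obtain ⟨j, hj'⟩ : ∃ j, Nat.find hex = j + 1 := by
      rcases hf : Nat.find hex with _ | j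
      · rw [hf, pow_zero, pow_one] at hj; exact absurd hj hd1
      · exact ⟨j, rfl⟩
    have he1 : d ^ (2 ^ j) ≠ 1 := Nat.find_min hex (by omega)
    have he2 : d ^ (2 ^ j) * d ^ (2 ^ j) = 1 := by
      rw [← pow_add, ← mul_two, ← pow_succ, ← hj']; exact hj
    have hec : d ^ (2 ^ j) * tL = tL * d ^ (2 ^ j) := by
      have : tL * d ^ (2 ^ j) * tL⁻¹ = d ^ (2 ^ j) := by
        rw [← conj_pow, hdu, inv_pow, inv_eq_of_mul_eq_one_right he2]
      exact (mul_inv_eq_iff_eq_mul.mp this).symm
    rcases huniq _ (d ^ (2 ^ j)).2 (congrArg Subtype.val hec) (congrArg Subtype.val he2) with e | e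
    · exact he1 (Subtype.ext e)
    · have htd : tL * d = d * tL := by
        have : Commute (d ^ (2 ^ j)) d := Commute.pow_self d _
        rw [show d ^ (2 ^ j) = tL from Subtype.ext e] at this
        exact this
      have hut : u * tL = tL * u := by
        have := congrArg (tL * ·) htd
        simp only [hd, ← mul_assoc, htL2, one_mul] at this
        exact this.symm
      rcases huniq _ u.2 (congrArg Subtype.val hut) (congrArg Subtype.val hu2) with e' | e'
      · have hu1 : u = 1 := Subtype.ext e'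
        rw [hu, mul_inv_eq_one] at hu1
        have : tL = 1 := by
          have h' : g * tL = g * 1 := by rw [hu1, mul_one]
          exact mul_left_cancel h'
        exact ht1 (by simpa [tL] using congrArg Subtype.val this)
      · exact hne (Subtype.ext e')
  obtain ⟨N, -, hNodd, hNmem⟩ := Cfsg.Agent.S0215.result P tL htL htP hiso
  let M : Subgroup Γ := Subgroup.closure ((fun g => t * g * t⁻¹ * g⁻¹) '' (fixL t α : Set Γ))
  have hMle : M ≤ N.map L.subtype := by
    rw [Subgroup.closure_le]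
    rintro _ ⟨g, hg, rfl⟩
    exact ⟨tL * ⟨g, hg⟩ * tL⁻¹ * ⟨g, hg⟩⁻¹, hNmem _, rfl⟩
  have hMbot : M = ⊥ := by
    refine h.block ht M (hMle.trans (Subgroup.map_subtype_le N)) ?_ ?_
    · refine Odd.of_dvd_nat ?_ (Subgroup.card_dvd_of_le hMle)
      rwa [Subgroup.card_map_of_injective (f := L.subtype) (Subgroup.subtype_injective _)]
    · intro c hc ν hν
      have hle : M ≤ M.comap (MulAut.conj c).toMonoidHom := by
        rw [Subgroup.closure_le]
        rintro _ ⟨g, hg, rfl⟩
        refine Subgroup.subset_closure ⟨c * g * c⁻¹, conj_mem_fixL hc hg, ?_⟩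
        have hct : c * t * c⁻¹ = t := by rw [hc, mul_inv_cancel_right]
        show t * (c * g * c⁻¹) * t⁻¹ * (c * g * c⁻¹)⁻¹ = c * (t * g * t⁻¹ * g⁻¹) * c⁻¹
        conv_lhs => rw [← hct]
        group
      exact hle hν
  intro g hg
  have : t * g * t⁻¹ * g⁻¹ ∈ M := Subgroup.subset_closure ⟨g, hg, rfl⟩
  rw [hMbot, Subgroup.mem_bot, mul_inv_eq_one, mul_inv_eq_iff_eq_mul] at this
  exact this.symm

/-- `n ≥ 8`: all involutions have three fixed points and central in their `L`. -/
theorem Hyp.comm_of_eight (h : Hyp Γ α) (h8 : 8 ≤ Fintype.card α) {t : Γ} (ht : t * t = 1) (ht1 : t ≠ 1)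
    {g : Γ} (hg : g ∈ fixL t α) : g * t = t * g := by
  refine h.central (by omega) ht ht1 (fun s hsL hsc hs => ?_) g hg
  by_contra hc
  push Not at hc
  have := h.small_of_four (by omega) ht ht1 hs hc.1 hc.2 hsL hsc
  omega

theorem Hyp.three_fixed (h : Hyp Γ α) (h8 : 8 ≤ Fintype.card α) {t : Γ} (ht : t * t = 1) (ht1 : t ≠ 1)
    {p q : α} (hp : t • p = p) (hq : t • q = q) (hpq : p ≠ q) :
    ∃ w, t • w = w ∧ w ≠ p ∧ w ≠ q ∧ ∀ x, t • x = x → x = p ∨ x = q ∨ x = w := by
  have hsub : ({p, q} : Finset α) ⊆ fixF t := by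
    intro x hx
    simp only [Finset.mem_insert, Finset.mem_singleton] at hx
    rcases hx with rfl | rfl <;> simp [hp, hq]
  have h2 := Finset.card_le_card hsub
  rw [Finset.card_pair hpq] at h2
  have h3 := h.card_fix_le ht ht1
  by_cases h22 : (fixF t : Finset α).card = 2
  · exfalso
    have hF := Finset.eq_of_subset_of_card_le hsub (by rw [Finset.card_pair hpq]; omega)
    obtain ⟨a, b, ha, hb, hba, hbta⟩ := h.two_cycles (by omega) ht ht1
    have qd := quad_moved_fix ht ha hp hq hpq
    have qd' : Quad a b p q := ⟨hba.symm, qd.hac, qd.had, fun e => hb (e ▸ hp), fun e => hb (e ▸ hq), hpq⟩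
    obtain ⟨g, hga, hgb, hgp, hgq⟩ := h.tr qd qd'
    have hgL : g ∈ fixL t α := mem_fixL.mpr fun x hx => by
      have : x ∈ ({p, q} : Finset α) := by rw [hF]; simpa using hx
      simp only [Finset.mem_insert, Finset.mem_singleton] at this
      rcases this with rfl | rfl
      · exact hgp
      · exact hgq
    rw [comm_smul (h.comm_of_eight h8 ht ht1 hgL), hga] at hgb
    exact hbta hgb.symm
  · obtain ⟨w, hw, hw'⟩ := Finset.exists_mem_notMem_of_card_lt_card
      (s := ({p, q} : Finset α)) (t := fixF t) (by rw [Finset.card_pair hpq]; omega)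
    simp only [Finset.mem_insert, Finset.mem_singleton, not_or] at hw'
    refine ⟨w, mem_fixF.mp hw, hw'.1, hw'.2, fun x hx => ?_⟩
    by_contra hc
    push Not at hc
    have hs : ({x, p, q, w} : Finset α) ⊆ fixF t := by
      intro y hy
      simp only [Finset.mem_insert, Finset.mem_singleton] at hy
      rcases hy with rfl | rfl | rfl | rfl
      · simpa using hx
      · simpa using hp
      · simpa using hq
      · exact hw
    have := Finset.card_le_card hs
    rw [Finset.card_insert_of_notMem (by simp [hc.1, hc.2.1, hc.2.2]),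
      Finset.card_insert_of_notMem (by simp [hpq, Ne.symm hw'.1]),
      Finset.card_pair (Ne.symm hw'.2)] at this
    omega

theorem mem_stab {a b c d : α} (q : Quad a b c d) {g : Γ} :
    g ∈ stabilizer Γ q.emb ↔ g • a = a ∧ g • b = b ∧ g • c = c ∧ g • d = d := by
  rw [MulAction.mem_stabilizer_iff]
  constructor
  · intro h
    exact ⟨by simpa using DFunLike.congr_fun h 0, by simpa using DFunLike.congr_fun h 1,
      by simpa using DFunLike.congr_fun h 2, by simpa using DFunLike.congr_fun h 3⟩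
  · rintro ⟨ha, hb, hc, hd⟩
    ext i
    fin_cases i <;> simp [Function.Embedding.smul_apply, ha, hb, hc, hd]

theorem Hyp.card_stab_eq (h : Hyp Γ α) (x y : Fin 4 ↪ α) :
    Nat.card (stabilizer Γ x) = Nat.card (stabilizer Γ y) := by
  obtain ⟨g, rfl⟩ := isMultiplyPretransitive_iff.mp h.trans x y
  rw [stabilizer_smul_eq_stabilizer_map_conj,
    Subgroup.card_map_of_injective (f := (MulAut.conj g).toMonoidHom) (MulAut.conj g).injective]

/-- A four-point stabilizer lies in `L` of an involution `(a b)(c)(d)`. -/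
theorem Hyp.stab_comm (h : Hyp Γ α) (h8 : 8 ≤ Fintype.card α) {a b c d : α} (q : Quad a b c d) {t g : Γ}
    (ht : t * t = 1) (hta : t • a = b) (htc : t • c = c) (htd : t • d = d)
    (hga : g • a = a) (hgb : g • b = b) (hgc : g • c = c) (hgd : g • d = d) :
    g ∈ fixL t α ∧ g * t = t * g := by
  have ht1 : t ≠ 1 := fun e => q.hab (by rw [← hta, e, one_smul])
  obtain ⟨w, hw, hwc, hwd, hall⟩ := h.three_fixed h8 ht ht1 htc htd q.hcd
  have haw : a ≠ w := fun e => q.hab (by rw [← hta, e, hw])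
  have q' : Quad a c d w := ⟨q.hac, q.had, haw, q.hcd, hwc.symm, hwd.symm⟩
  have hle : stabilizer Γ q'.emb ≤ stabilizer Γ q.emb := by
    intro k hk
    obtain ⟨hka, hkc, hkd, hkw⟩ := (mem_stab q').mp hk
    have hkL : k ∈ fixL t α := mem_fixL.mpr fun x hx => by
      rcases hall x hx with rfl | rfl | rfl
      exacts [hkc, hkd, hkw]
    refine (mem_stab q).mpr ⟨hka, ?_, hkc, hkd⟩
    rw [← hta, comm_smul (h.comm_of_eight h8 ht ht1 hkL), hka]
  have heq := Subgroup.eq_of_le_of_card_ge hle (h.card_stab_eq _ _).le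
  have hg : g ∈ stabilizer Γ q.emb := (mem_stab q).mpr ⟨hga, hgb, hgc, hgd⟩
  rw [← heq] at hg
  obtain ⟨-, -, -, hgw⟩ := (mem_stab q').mp hg
  have hgL : g ∈ fixL t α := mem_fixL.mpr fun x hx => by
    rcases hall x hx with rfl | rfl | rfl
    exacts [hgc, hgd, hgw]
  exact ⟨hgL, h.comm_of_eight h8 ht ht1 hgL⟩

theorem Hyp.stab_trivial (h : Hyp Γ α) (h8 : 8 ≤ Fintype.card α) {a b c d : α} (q : Quad a b c d) {g : Γ}
    (hga : g • a = a) (hgb : g • b = b) (hgc : g • c = c) (hgd : g • d = d) : g = 1 := by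
  obtain ⟨t, ht, ht1, hta, htb, htc, htd⟩ := h.exists_transp q
  have q2 : Quad c d a b := ⟨q.hcd, q.hac.symm, q.hbc.symm, q.had.symm, q.hbd.symm, q.hab⟩
  obtain ⟨r, hr, hr1, hrc, hrd, hra, hrb⟩ := h.exists_transp q2
  obtain ⟨w, hw, hwc, hwd, hall⟩ := h.three_fixed h8 ht ht1 htc htd q.hcd
  -- t and r commute
  have htr : t * r = r * t := by
    set e := t * r * t * r with he
    have hea : e • a = a := by simp only [he, mul_smul, hra, hta, hrb, htb]
    have heb : e • b = b := by simp only [he, mul_smul, hrb, htb, hra, hta]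
    have hec : e • c = c := by simp only [he, mul_smul, hrc, htd, hrd, htc]
    have hed : e • d = d := by simp only [he, mul_smul, hrd, htc, hrc, htd]
    have hodd := h.odd e a b c d q hea heb hec hed
    have hcomm := (h.stab_comm h8 q ht hta htc htd hea heb hec hed).2
    have ct : ∀ x : Γ, t * (t * x) = x := fun x => by rw [← mul_assoc, ht, one_mul]
    have cr : ∀ x : Γ, r * (r * x) = x := fun x => by rw [← mul_assoc, hr, one_mul]
    have hee : e * e = 1 := by
      have h1 : r * (t * (r * t)) = e := by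
        have h0 : t * e * t = e := by rw [← hcomm, mul_assoc, ht, mul_one]
        rw [he] at h0 ⊢
        simpa only [mul_assoc, ct] using h0
      calc e * e = r * (t * (r * t)) * (t * r * t * r) := by rw [h1]
        _ = 1 := by simp only [mul_assoc, ct, cr, hr]
    have he1 := eq_one_of_odd hodd hee
    calc t * r = e * (r * t) := by rw [he]; simp only [mul_assoc, cr, ht, mul_one]
      _ = r * t := by rw [he1, one_mul]
  have hrw : r • w = w := by
    rcases hall (r • w) (preserve_fixed htr.symm hw) with e | e | e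
    · exact absurd (smul_left_cancel r (e.trans hrd.symm)) hwd
    · exact absurd (smul_left_cancel r (e.trans hrc.symm)) hwc
    · exact e
  have hz : (t * r) * (t * r) = 1 := by
    rw [mul_assoc, ← mul_assoc r t r, ← htr, mul_assoc t r r, hr, mul_one, ht]
  have hz1 : t * r ≠ 1 := fun e => by
    have := congrArg (fun y : Γ => y • a) e
    simp only [mul_smul, hra, hta, one_smul] at this
    exact q.hab this.symm
  have hzw : (t * r) • w = w := by rw [mul_smul, hrw, hw]
  obtain ⟨p, hp, hpw⟩ := Finset.exists_mem_ne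
    (show 1 < (fixF (t * r) : Finset α).card from h.two_le_fix (by omega) hz hz1) w
  obtain ⟨u, hu, huw, hup, hall'⟩ := h.three_fixed h8 hz hz1 hzw (mem_fixF.mp hp) (Ne.symm hpw)
  have hzc : ∀ {k : Γ}, k • a = a → k • b = b → k • c = c → k • d = d → k • p = p := by
    intro k hka hkb hkc hkd
    obtain ⟨hkL, hkt⟩ := h.stab_comm h8 q ht hta htc htd hka hkb hkc hkd
    obtain ⟨-, hkr⟩ := h.stab_comm h8 q2 hr hrc hra hrb hkc hkd hka hkb
    have hkz : k * (t * r) = (t * r) * k := (Commute.mul_right hkt hkr : Commute k (t * r))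
    have hkw : k • w = w := mem_fixL.mp hkL w hw
    refine fixed_of_odd_of_sq (h.odd k a b c d q hka hkb hkc hkd) ?_
    rcases hall' _ (preserve_fixed hkz (mem_fixF.mp hp)) with e | e | e
    · exact absurd (smul_left_cancel k (e.trans hkw.symm)) hpw
    · rw [e, e]
    · rcases hall' _ (preserve_fixed hkz hu) with e' | e' | e'
      · exact absurd (smul_left_cancel k (e'.trans hkw.symm)) huw
      · rw [e, e']
      · exact absurd (smul_left_cancel k (e.trans e'.symm)) hup.symm
  -- `p` is moved by `t` and is outside `a`, `b`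
  have hza : (t * r) • a = b := by rw [mul_smul, hra, hta]
  have hzc' : (t * r) • c = d := by rw [mul_smul, hrc, htd]
  have hp' := mem_fixF.mp hp
  have hpa : p ≠ a := fun e => q.hab (by rw [← hza, ← e, hp'])
  have hpb : p ≠ b := fun e => q.hab (smul_left_cancel (t * r) (by rw [hza, ← e, hp']))
  have hpt : t • p ≠ p := by
    intro e
    rcases hall p e with rfl | rfl | rfl
    · exact q.hcd (by rw [← hzc', hp'])
    · exact q.hcd (smul_left_cancel (t * r) (by rw [hzc', hp']))
    · exact hpw rfl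
  have hat : t • a ≠ a := fun e => q.hab (by rw [← hta, e])
  obtain ⟨hgL, -⟩ := h.stab_comm h8 q ht hta htc htd hga hgb hgc hgd
  refine FaithfulSMul.eq_of_smul_eq_smul (α := α) fun x => ?_
  rw [one_smul]
  by_cases hx : t • x = x
  · exact mem_fixL.mp hgL x hx
  by_cases hxa : x = a
  · rw [hxa, hga]
  by_cases hxb : x = b
  · rw [hxb, hgb]
  obtain ⟨k, hka, hkp, hkt⟩ := h.conj_moved ht ht hat hpt hpa (by rw [hta]; exact hpb) hat hx hxa
    (by rw [hta]; exact hxb)
  have hkb : k • b = b := by rw [← hta, comm_smul hkt, hka]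
  have hfix : ∀ y : α, g • k • y = k • y → (k⁻¹ * g * k) • y = y := fun y hy => by
    rw [mul_smul, mul_smul, hy, inv_smul_smul]
  have := hzc (k := k⁻¹ * g * k) (hfix a (by rw [hka, hga])) (hfix b (by rw [hkb, hgb]))
    (hfix c (mem_fixL.mp hgL _ (preserve_fixed hkt htc))) (hfix d (mem_fixL.mp hgL _ (preserve_fixed hkt htd)))
  rw [mul_smul, mul_smul, hkp, inv_smul_eq_iff, hkp] at this
  exact this

theorem moved_even {t : Γ} (ht : t * t = 1) : Even (Finset.univ.filter fun x : α => t • x ≠ x).card := by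
  by_contra hc
  obtain ⟨x, hx, hx'⟩ := exists_fixed_of_odd ht (s := Finset.univ.filter fun x : α => t • x ≠ x)
    (fun x hx => by simp only [Finset.mem_filter, Finset.mem_univ, true_and] at hx ⊢; exact moved_t ht hx)
    (Nat.not_even_iff_odd.mp hc)
  exact (Finset.mem_filter.mp hx).2 hx'

theorem card_fix_add_moved (t : Γ) :
    (fixF t : Finset α).card + (Finset.univ.filter fun x : α => t • x ≠ x).card = Fintype.card α :=
  Finset.card_filter_add_card_filter_not _

theorem Hyp.degree_of_eight (h : Hyp Γ α) (h8 : 8 ≤ Fintype.card α) : Fintype.card α = 11 := by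
  classical
  obtain ⟨e⟩ := Function.Embedding.nonempty_of_card_le (α := Fin 4) (β := α) (by simp; omega)
  have hne : ∀ i j : Fin 4, i ≠ j → e i ≠ e j := fun i j hij hh => hij (e.injective hh)
  have q : Quad (e 0) (e 1) (e 2) (e 3) := ⟨hne 0 1 (by decide), hne 0 2 (by decide), hne 0 3 (by decide),
    hne 1 2 (by decide), hne 1 3 (by decide), hne 2 3 (by decide)⟩
  obtain ⟨t, ht, ht1, hta, htb, htc, htd⟩ := h.exists_transp q
  obtain ⟨w, hw, hwc, hwd, hall⟩ := h.three_fixed h8 ht ht1 htc htd q.hcd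
  set a := e 0; set b := e 1; set c := e 2; set d := e 3
  have hat : t • a ≠ a := fun e => q.hab (by rw [← hta, e])
  have hfix3 : (fixF t : Finset α).card = 3 := by
    have : (fixF t : Finset α) = {c, d, w} := by
      ext x
      simp only [mem_fixF, Finset.mem_insert, Finset.mem_singleton]
      exact ⟨hall x, by rintro (rfl | rfl | rfl) <;> assumption⟩
    rw [this, Finset.card_insert_of_notMem (by simp [q.hcd, hwc.symm]), Finset.card_pair hwd.symm]
  let A : Subgroup Γ := Subgroup.centralizer {t} ⊓ stabilizer Γ a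
  have memA : ∀ {g : Γ}, g ∈ A ↔ g * t = t * g ∧ g • a = a := fun {g} => by
    simp [A, Subgroup.mem_centralizer_singleton_iff, MulAction.mem_stabilizer_iff]
  let S : Finset (α × α) := (fixF t).offDiag
  have hmem : ∀ g : A, ((g : Γ) • c, (g : Γ) • d) ∈ S := fun g => by
    obtain ⟨hgt, -⟩ := memA.mp g.2
    simp only [S, Finset.mem_offDiag, mem_fixF]
    exact ⟨preserve_fixed hgt htc, preserve_fixed hgt htd, fun e => q.hcd (smul_left_cancel _ e)⟩
  have hbij : Function.Bijective (fun g : A => (⟨_, hmem g⟩ : S)) := by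
    refine ⟨fun g g' e => ?_, ?_⟩
    · simp only [Subtype.mk.injEq, Prod.mk.injEq] at e
      obtain ⟨hgt, hga⟩ := memA.mp g.2
      obtain ⟨hgt', hga'⟩ := memA.mp g'.2
      have hgb : (g : Γ) • b = b := by rw [← hta, comm_smul hgt, hga]
      have hgb' : (g' : Γ) • b = b := by rw [← hta, comm_smul hgt', hga']
      have h1 := h.stab_trivial h8 q (g := (g' : Γ)⁻¹ * g)
        (by rw [mul_smul, hga, inv_smul_eq_iff, hga']) (by rw [mul_smul, hgb, inv_smul_eq_iff, hgb'])
        (by rw [mul_smul, e.1, inv_smul_smul]) (by rw [mul_smul, e.2, inv_smul_smul])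
      exact Subtype.ext (inv_mul_eq_one.mp h1).symm
    · rintro ⟨⟨x, y⟩, hxy⟩
      simp only [S, Finset.mem_offDiag, mem_fixF] at hxy
      obtain ⟨g, hga, hgc, hgd, hgt⟩ := h.conj_fix ht ht hat htc htd q.hcd hat hxy.1 hxy.2.1 hxy.2.2
      exact ⟨⟨g, memA.mpr ⟨hgt, hga⟩⟩, Subtype.ext (Prod.ext hgc hgd)⟩
  have hA : Nat.card A = 6 := by
    rw [Nat.card_congr (Equiv.ofBijective _ hbij), Nat.card_eq_fintype_card, Fintype.card_coe,
      Finset.offDiag_card, hfix3]
  obtain ⟨x, hx, hxa, hxb⟩ : ∃ x, t • x ≠ x ∧ x ≠ a ∧ x ≠ b := by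
    by_contra hno
    push Not at hno
    have : (Finset.univ.filter fun x : α => t • x ≠ x) ⊆ {a, b} := fun y hy => by
      have := hno y (Finset.mem_filter.mp hy).2
      simp only [Finset.mem_insert, Finset.mem_singleton]
      tauto
    have := (Finset.card_le_card this).trans Finset.card_le_two
    have := card_fix_add_moved (α := α) t
    omega
  have horb : orbit A x = {y | t • y ≠ y ∧ y ≠ a ∧ y ≠ b} := by
    ext y
    constructor
    · rintro ⟨⟨g, hg⟩, rfl⟩
      obtain ⟨hgt, hga⟩ := memA.mp hg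
      have hgb : g • b = b := by rw [← hta, comm_smul hgt, hga]
      refine ⟨fun e => ?_, fun e => hxa (smul_left_cancel g ?_), fun e => hxb (smul_left_cancel g ?_)⟩
      · exact hx (smul_left_cancel g (by rw [comm_smul hgt]; exact e))
      · exact e.trans hga.symm
      · exact e.trans hgb.symm
    · rintro ⟨hy, hya, hyb⟩
      obtain ⟨g, hga, hgx, hgt⟩ := h.conj_moved ht ht hat hx hxa (by rw [hta]; exact hxb) hat hy hya
        (by rw [hta]; exact hyb)
      exact ⟨⟨g, memA.mpr ⟨hgt, hga⟩⟩, hgx⟩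
  have hdvd : (orbit A x).ncard ∣ 6 := by
    rw [← index_stabilizer, ← hA]; exact Subgroup.index_dvd_card _
  have hm := card_fix_add_moved (α := α) t
  obtain ⟨k, hk⟩ := moved_even (α := α) ht
  have hcount : (orbit A x).ncard + 2 = (Finset.univ.filter fun x : α => t • x ≠ x).card := by
    have hU : (Finset.univ.filter fun x : α => t • x ≠ x) =
        insert a (insert b (Finset.univ.filter fun y : α => t • y ≠ y ∧ y ≠ a ∧ y ≠ b)) := by
      ext y
      simp only [Finset.mem_filter, Finset.mem_univ, true_and, Finset.mem_insert]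
      refine ⟨fun hy => ?_, ?_⟩
      · tauto
      · rintro (rfl | rfl | h')
        · exact hat
        · rw [htb]; exact q.hab
        · exact h'.1
    rw [horb, hU, Finset.card_insert_of_notMem (by simp [q.hab]), Finset.card_insert_of_notMem (by simp),
      ← Set.ncard_coe_finset]
    simp
  have := Nat.le_of_dvd (by norm_num) hdvd
  have : (orbit A x).ncard ≠ 4 := fun e => by rw [e] at hdvd; norm_num at hdvd
  omega

theorem Hyp.stab_ne_seven (h : Hyp Γ α) (h7 : Fintype.card α = 7) :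
    ∃ (a b c d : α) (g : Γ), Quad a b c d ∧ g • a = a ∧ g • b = b ∧ g • c = c ∧ g • d = d ∧ g ≠ 1 := by
  by_contra hno
  push Not at hno
  obtain ⟨e⟩ := Function.Embedding.nonempty_of_card_le (α := Fin 4) (β := α) (by simp; omega)
  have hne : ∀ i j : Fin 4, i ≠ j → e i ≠ e j := fun i j hij hh => hij (e.injective hh)
  obtain ⟨t, ht, ht1, -, -, -, -⟩ := h.exists_transp (a := e 0) (b := e 1) (c := e 2) (d := e 3)
    ⟨hne 0 1 (by decide), hne 0 2 (by decide), hne 0 3 (by decide), hne 1 2 (by decide),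
      hne 1 3 (by decide), hne 2 3 (by decide)⟩
  have h3 : (fixF t : Finset α).card = 3 := by
    have h2 := h.two_le_fix (by omega) ht ht1
    have := h.card_fix_le ht ht1
    have := card_fix_add_moved (α := α) t
    obtain ⟨k, hk⟩ := moved_even (α := α) ht
    omega
  obtain ⟨p, q, r, hpq, hpr, hqr, hF⟩ := Finset.card_eq_three.mp h3
  have hp : t • p = p := mem_fixF.mp (by rw [hF]; simp)
  have hq : t • q = q := mem_fixF.mp (by rw [hF]; simp)
  have hr : t • r = r := mem_fixF.mp (by rw [hF]; simp)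
  obtain ⟨a, b, ha, hb, hba, hbta⟩ := h.two_cycles (by omega) ht ht1
  have qd := quad_moved ht ha hb hba hbta
  obtain ⟨g, hga, hgp, hgq, hg⟩ := h.conj_fix ht ht ha hp hq hpq ha hq hr hqr
  have hgta : g • t • a = t • a := by rw [comm_smul hg, hga]
  have hmv : ∀ y : α, t • y ≠ y → y = a ∨ y = t • a ∨ y = b ∨ y = t • b := by
    intro y hy
    by_contra hc
    push Not at hc
    have hsub : ({y, a, t • a, b, t • b} : Finset α) ⊆ Finset.univ.filter fun x : α => t • x ≠ x := by
      intro v hv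
      simp only [Finset.mem_insert, Finset.mem_singleton] at hv
      simp only [Finset.mem_filter, Finset.mem_univ, true_and]
      rcases hv with rfl | rfl | rfl | rfl | rfl
      exacts [hy, ha, moved_t ht ha, hb, moved_t ht hb]
    have := Finset.card_le_card hsub
    rw [Finset.card_insert_of_notMem (by simp [hc.1, hc.2.1, hc.2.2.1, hc.2.2.2]),
      Finset.card_insert_of_notMem (by simp [qd.hab, qd.hac, qd.had]),
      Finset.card_insert_of_notMem (by simp [qd.hbc, qd.hbd]), Finset.card_pair qd.hcd] at this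
    have := card_fix_add_moved (α := α) t
    omega
  have hgb : g • b = b ∨ g • b = t • b := by
    rcases hmv (g • b) (fun e => hb (smul_left_cancel g (by rw [comm_smul hg]; exact e))) with e | e | e | e
    · exact absurd (smul_left_cancel g (e.trans hga.symm)) hba
    · exact absurd (smul_left_cancel g (e.trans hgta.symm)) hbta
    · exact Or.inl e
    · exact Or.inr e
  have hggb : g • g • b = b := by
    rcases hgb with e | e
    · rw [e, e]
    · rw [e, comm_smul hg, e, smul_smul_self ht]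
  have h1 := hno a (t • a) b (t • b) (g * g) qd (by rw [mul_smul, hga, hga]) (by rw [mul_smul, hgta, hgta])
    (by rw [mul_smul, hggb]) (by rw [mul_smul, comm_smul hg, comm_smul hg, hggb])
  have := congrArg (fun y : Γ => y • p) h1
  simp only [mul_smul, hgp, hgq, one_smul] at this
  exact hpr this.symm

theorem stabilizer_eq (x : Fin 4 ↪ α) (S : Subgroup Γ)
    (hS : ∀ g : Γ, g ∈ S ↔ ∀ i, g • x i = x i) : S = stabilizer Γ x := by
  ext g
  rw [hS g, MulAction.mem_stabilizer_iff]
  exact ⟨fun hg => DFunLike.ext _ _ hg, fun hg i => DFunLike.congr_fun hg i⟩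

theorem quad_of_emb (x : Fin 4 ↪ α) : Quad (x 0) (x 1) (x 2) (x 3) :=
  ⟨x.injective.ne (by decide), x.injective.ne (by decide), x.injective.ne (by decide),
    x.injective.ne (by decide), x.injective.ne (by decide), x.injective.ne (by decide)⟩

/-- Order and hypotheses, from the stabilizer of one quadruple. -/
theorem hyp_of_stab (hG : IsMultiplyPretransitive Γ α 4) (x : Fin 4 ↪ α) (S : Subgroup Γ)
    (hS : ∀ g : Γ, g ∈ S ↔ ∀ i, g • x i = x i) (hodd : Odd (Nat.card S)) :
    Hyp Γ α ∧ Nat.card Γ = (Fintype.card α).descFactorial 4 * Nat.card S ∧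
      (∀ (a b c d : α) (g : Γ), Quad a b c d → g • a = a → g • b = b → g • c = c → g • d = d →
        Nat.card S = 1 → g = 1) := by
  rw [stabilizer_eq x S hS] at hodd ⊢
  have hcard : ∀ y : Fin 4 ↪ α, Nat.card (stabilizer Γ y) = Nat.card (stabilizer Γ x) := by
    intro y
    obtain ⟨g, rfl⟩ := isMultiplyPretransitive_iff.mp hG x y
    rw [stabilizer_smul_eq_stabilizer_map_conj,
      Subgroup.card_map_of_injective (f := (MulAut.conj g).toMonoidHom) (MulAut.conj g).injective]
  refine ⟨⟨hG, fun g a b c d q ha hb hc hd => ?_⟩, ?_, fun a b c d g q ha hb hc hd h1 => ?_⟩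
  · have hg : g ∈ stabilizer Γ q.emb := (mem_stab q).mpr ⟨ha, hb, hc, hd⟩
    rw [← Subgroup.orderOf_mk g hg]
    exact Odd.of_dvd_nat (hcard q.emb ▸ hodd) (orderOf_dvd_natCard _)
  · have hpre : IsPretransitive Γ (Fin 4 ↪ α) := hG
    have hidx : (stabilizer Γ x).index = Nat.card (Fin 4 ↪ α) :=
      index_stabilizer_of_transitive Γ x
    rw [← Subgroup.card_mul_index (stabilizer Γ x), hidx, mul_comm,
      Nat.card_eq_fintype_card (α := Fin 4 ↪ α), Fintype.card_embedding_eq, Fintype.card_fin]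
  · have hg : g ∈ stabilizer Γ q.emb := (mem_stab q).mpr ⟨ha, hb, hc, hd⟩
    rwa [Subgroup.card_eq_one.mp ((hcard q.emb).trans h1), Subgroup.mem_bot] at hg

end Finite

end Cfsg.Agent.Hall4Odd
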